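/- helper555: 2-transitive actions of groups between A_m and S_m: intransitive and imprimitive stabilizers (HUB H1, P10) -/
import Cfsg.Agent.H555.AltTwo.Base
import Mathlib.GroupTheory.Perm.Cycle.Type
import Mathlib.GroupTheory.SpecificGroups.Alternating

set_option autoImplicit false

namespace Cfsg.Agent.H555.AltTwo

open MulAction Equiv Equiv.Perm

universe u v
variable {α : Type} [Fintype α] [DecidableEq α]
set_option linter.unusedSectionVars false
set_option linter.unusedTactic false

/-! ### counting functions -/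

/-- number of points of `K` mapped into `K` -/
def cnt (K : Finset α) (σ : Perm α) : ℕ := (K.filter (fun u => σ u ∈ K)).card

theorem cnt_left {K : Finset α} {h : Perm α} (hh : ∀ u, u ∈ K ↔ h u ∈ K) (σ : Perm α) :
    cnt K (h * σ) = cnt K σ := by
  unfold cnt
  congr 1
  apply Finset.filter_congr
  intro u _
  rw [Perm.mul_apply]
  exact (hh (σ u)).symm

theorem cnt_right {K : Finset α} {h : Perm α} (hh : ∀ u, u ∈ K ↔ h u ∈ K) (σ : Perm α) :
    cnt K (σ * h) = cnt K σ := by
  unfold cnt
  apply Finset.card_equiv h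
  intro u
  rw [Finset.mem_filter, Finset.mem_filter, Perm.mul_apply, ← hh u]

/-- the 3-cycle `x → z → x' → x` -/
def cyc (x x' z : α) : Perm α := swap x x' * swap x z

theorem cyc_mem {x x' z : α} (h1 : x ≠ x') (h2 : x ≠ z) (h3 : x' ≠ z) :
    cyc x x' z ∈ alternatingGroup α :=
  (isThreeCycle_swap_mul_swap_same h1 h2 h3).mem_alternatingGroup

theorem cyc_x {x x' z : α} (h2 : x ≠ z) (h3 : x' ≠ z) : cyc x x' z x = z := by
  rw [cyc, Perm.mul_apply, swap_apply_left, swap_apply_of_ne_of_ne h2.symm h3.symm]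

theorem cyc_x' {x x' z : α} (h1 : x ≠ x') (h3 : x' ≠ z) : cyc x x' z x' = x := by
  rw [cyc, Perm.mul_apply, swap_apply_of_ne_of_ne h1.symm h3, swap_apply_right]

theorem cyc_z {x x' z : α} : cyc x x' z z = x' := by
  rw [cyc, Perm.mul_apply, swap_apply_right, swap_apply_left]

theorem cyc_other {x x' z u : α} (h1 : u ≠ x) (h2 : u ≠ x') (h3 : u ≠ z) : cyc x x' z u = u := by
  rw [cyc, Perm.mul_apply, swap_apply_of_ne_of_ne h1 h3, swap_apply_of_ne_of_ne h1 h2]

/-- the double transposition `(x z)(x' z')` -/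
def dbl (x x' z z' : α) : Perm α := swap x z * swap x' z'

theorem dbl_mem {x x' z z' : α} (h1 : x ≠ z) (h2 : x' ≠ z') : dbl x x' z z' ∈ alternatingGroup α := by
  rw [mem_alternatingGroup, dbl, sign_mul, sign_swap h1, sign_swap h2]
  norm_num

theorem cnt_cyc {K : Finset α} {x x' z : α} (hx : x ∈ K) (hx' : x' ∈ K) (hz : z ∉ K) (h : x ≠ x') :
    cnt K (cyc x x' z) = K.card - 1 := by
  have h2 : x ≠ z := fun h => hz (h ▸ hx)
  have h3 : x' ≠ z := fun h => hz (h ▸ hx')
  rw [cnt, ← Finset.card_erase_of_mem hx]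
  congr 1
  ext u
  simp only [Finset.mem_filter, Finset.mem_erase]
  constructor
  · rintro ⟨hu, hc⟩
    refine ⟨?_, hu⟩
    rintro rfl
    rw [cyc_x h2 h3] at hc
    exact hz hc
  · rintro ⟨hux, hu⟩
    refine ⟨hu, ?_⟩
    by_cases hux' : u = x'
    · rw [hux', cyc_x' h h3]; exact hx
    · rw [cyc_other hux hux' (fun h5 => hz (by rw [← h5]; exact hu))]; exact hu

theorem cnt_dbl {K : Finset α} {x x' z z' : α} (hx : x ∈ K) (hx' : x' ∈ K) (hz : z ∉ K)
    (hz' : z' ∉ K) (h : x ≠ x') (h' : z ≠ z') :
    cnt K (dbl x x' z z') = K.card - 2 := by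
  have h2 : x ≠ z := fun h => hz (h ▸ hx)
  have h3 : x' ≠ z := fun h => hz (h ▸ hx')
  have h2' : x ≠ z' := fun h => hz' (h ▸ hx)
  have h3' : x' ≠ z' := fun h => hz' (h ▸ hx')
  have hx'' : x' ∈ K.erase x := Finset.mem_erase.mpr ⟨h.symm, hx'⟩
  have e1 : K.card - 2 = ((K.erase x).erase x').card := by
    rw [Finset.card_erase_of_mem hx'', Finset.card_erase_of_mem hx]; omega
  rw [cnt, e1]
  congr 1
  ext u
  simp only [Finset.mem_filter, Finset.mem_erase]
  constructor
  · rintro ⟨hu, hc⟩
    refine ⟨?_, ?_, hu⟩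
    · rintro rfl
      rw [dbl, Perm.mul_apply, swap_apply_left, swap_apply_of_ne_of_ne h2'.symm h'.symm] at hc
      exact hz' hc
    · rintro rfl
      rw [dbl, Perm.mul_apply, swap_apply_of_ne_of_ne h h2', swap_apply_left] at hc
      exact hz hc
  · rintro ⟨hux', hux, hu⟩
    refine ⟨hu, ?_⟩
    rw [dbl, Perm.mul_apply, swap_apply_of_ne_of_ne hux' (fun h5 => hz' (by rw [← h5]; exact hu)),
      swap_apply_of_ne_of_ne hux (fun h5 => hz (by rw [← h5]; exact hu))]
    exact hu

/-! ### the setting -/

variable {G : Type u} {Ω : Type v} [Group G] [MulAction G Ω]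

/-- the stabilizer in `G` of the subset `K` -/
def stabK (φ : G →* Perm α) (K : Finset α) : Subgroup G where
  carrier := {g | ∀ u, u ∈ K ↔ φ g u ∈ K}
  one_mem' := fun u => by rw [map_one, Perm.one_apply]
  mul_mem' := by
    intro g h hg hh u
    rw [map_mul, Perm.mul_apply, ← hg, ← hh]
  inv_mem' := by
    intro g hg u
    rw [hg (φ g⁻¹ u), ← Perm.mul_apply, ← map_mul, mul_inv_cancel, map_one, Perm.one_apply]

theorem mem_stabK {φ : G →* Perm α} {K : Finset α} {g : G} :
    g ∈ stabK φ K ↔ ∀ u, u ∈ K ↔ φ g u ∈ K := Iff.rfl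

theorem exists_cyc {φ : G →* Perm α} (hA : alternatingGroup α ≤ φ.range) {x x' z : α}
    (h1 : x ≠ x') (h2 : x ≠ z) (h3 : x' ≠ z) : ∃ g : G, φ g = cyc x x' z := hA (cyc_mem h1 h2 h3)

theorem exists_dbl {φ : G →* Perm α} (hA : alternatingGroup α ≤ φ.range) {x x' z z' : α}
    (h1 : x ≠ z) (h2 : x' ≠ z') : ∃ g : G, φ g = dbl x x' z z' := hA (dbl_mem h1 h2)

/-- no subset of size between `2` and `m - 2` -/
theorem no_subset (h2 : IsMultiplyPretransitive G Ω 2) (a : Ω) {φ : G →* Perm α}
    (hA : alternatingGroup α ≤ φ.range) {K : Finset α} (hK : stabilizer G a = stabK φ K)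
    {x x' z z' : α} (hx : x ∈ K) (hx' : x' ∈ K) (hz : z ∉ K) (hz' : z' ∉ K) (h : x ≠ x')
    (h' : z ≠ z') : False := by
  have e1 : x ≠ z := fun h => hz (h ▸ hx)
  have e2 : x' ≠ z := fun h => hz (h ▸ hx')
  have e3 : x' ≠ z' := fun h => hz' (h ▸ hx')
  obtain ⟨g, hg⟩ := exists_cyc hA h e1 e2
  obtain ⟨g', hg'⟩ := exists_dbl hA (x' := x') e1 e3
  have hKc : 2 ≤ K.card := by
    have : ({x, x'} : Finset α) ⊆ K := by
      intro u hu
      simp only [Finset.mem_insert, Finset.mem_singleton] at hu
      rcases hu with rfl | rfl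
      · exact hx
      · exact hx'
    have h3 := Finset.card_le_card this
    rwa [Finset.card_pair h] at h3
  have key := inv_const h2 a (fun g => cnt K (φ g)) (by
    intro s hs g s' hs'
    rw [hK] at hs hs'
    change cnt K (φ (s * g * s')) = cnt K (φ g)
    rw [map_mul, map_mul, cnt_right hs', cnt_left hs]) (g := g) (g' := g') (by
      rw [hK]
      intro hc
      have := (hc x).mp hx
      rw [hg, cyc_x e1 e2] at this
      exact hz this) (by
      rw [hK]
      intro hc
      have := (hc x').mp hx'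
      rw [hg', dbl, Perm.mul_apply, swap_apply_left] at this
      by_cases h5 : z' = x
      · exact hz' (h5 ▸ hx)
      · rw [swap_apply_of_ne_of_ne h5 (fun h => h' h.symm)] at this
        exact hz' this)
  simp only [hg, hg', cnt_cyc hx hx' hz h, cnt_dbl hx hx' hz hz' h h'] at key
  omega

/-- the case of an invariant proper nonempty subset -/
theorem intransitive_case [Finite G] [Finite Ω] (h2 : IsMultiplyPretransitive G Ω 2) (a : Ω)
    (hco : IsCoatom (stabilizer G a)) {φ : G →* Perm α}
    (hA : alternatingGroup α ≤ φ.range) (hm : 4 ≤ Fintype.card α) {K : Finset α}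
    (hK : stabilizer G a ≤ stabK φ K) (hK1 : K.Nonempty) (hK2 : K ≠ Finset.univ) :
    Nat.card Ω = Fintype.card α := by
  obtain ⟨x, hx⟩ := hK1
  obtain ⟨z, hz⟩ : ∃ z, z ∉ K := by
    by_contra hcon
    push Not at hcon
    exact hK2 (Finset.eq_univ_iff_forall.mpr hcon)
  have hxz : x ≠ z := fun h => hz (h ▸ hx)
  -- a third point
  obtain ⟨w, hw⟩ : ∃ w, w ∉ ({x, z} : Finset α) := by
    by_contra hcon
    push Not at hcon
    have := Finset.card_le_card (fun u _ => hcon u : (Finset.univ : Finset α) ⊆ {x, z})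
    rw [Finset.card_univ] at this
    have h3 := Finset.card_le_two (a := x) (b := z)
    omega
  simp only [Finset.mem_insert, Finset.mem_singleton, not_or] at hw
  have hKne : stabK φ K ≠ ⊤ := by
    intro htop
    obtain ⟨g, hg⟩ := exists_cyc hA (x := x) (x' := w) (z := z) (Ne.symm hw.1) hxz hw.2
    have hgK : g ∈ stabK φ K := by rw [htop]; trivial
    have := (hgK x).mp hx
    rw [hg, cyc_x hxz hw.2] at this
    exact hz this
  have hKeq : stabilizer G a = stabK φ K := by
    by_contra hne
    exact hKne (hco.2 _ (lt_of_le_of_ne hK hne))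
  -- the size of K
  have : (∀ u ∈ K, u = x) ∨ (∀ u, u ∉ K → u = z) := by
    by_contra hcon
    push Not at hcon
    obtain ⟨⟨x', hx', hxx'⟩, ⟨z', hz', hzz'⟩⟩ := hcon
    exact no_subset h2 a hA hKeq hx hx' hz hz' (Ne.symm hxx') (Ne.symm hzz')
  -- so the stabilizer is a point stabilizer
  have hpt : ∃ y : α, ∀ g : G, g ∈ stabilizer G a ↔ φ g y = y := by
    rcases this with h | h
    · refine ⟨x, fun g => ?_⟩
      have hKx : ∀ u, u ∈ K ↔ u = x := fun u => ⟨h u, fun h => h ▸ hx⟩
      rw [hKeq, mem_stabK]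
      constructor
      · intro hg
        exact (hKx _).mp ((hg x).mp hx)
      · intro hg u
        rw [hKx, hKx]
        constructor
        · rintro rfl; exact hg
        · intro hu
          apply (φ g).injective
          rw [hu, hg]
    · refine ⟨z, fun g => ?_⟩
      have hKz : ∀ u, u ∈ K ↔ u ≠ z := fun u =>
        ⟨fun hu h => hz (h ▸ hu), fun hu => by
          by_contra hcon
          exact hu (h u hcon)⟩
      rw [hKeq, mem_stabK]
      constructor
      · intro hg
        by_contra hcon
        have := (hg z).mpr ((hKz _).mpr hcon)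
        exact hz this
      · intro hg u
        rw [hKz, hKz]
        constructor
        · intro hu h5
          apply hu
          apply (φ g).injective
          rw [h5, hg]
        · intro hu h5
          apply hu
          rw [h5]; exact hg
  obtain ⟨y, hy⟩ := hpt
  -- count
  have : IsPretransitive G Ω := isPretransitive_of_is_two_pretransitive
  have h1 : (stabilizer G a).index = Nat.card Ω := index_stabilizer_of_transitive G a
  let _ : MulAction G α := MulAction.compHom α φ
  have hsm : ∀ (g : G) (u : α), g • u = φ g u := fun _ _ => rfl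
  have hst : stabilizer G y = stabilizer G a := by
    ext g
    rw [hy, mem_stabilizer_iff, hsm]
  have htr : IsPretransitive G α := by
    constructor
    intro u u'
    by_cases huu : u = u'
    · exact ⟨1, by rw [one_smul, huu]⟩
    · obtain ⟨w, hw⟩ : ∃ w, w ∉ ({u, u'} : Finset α) := by
        by_contra hcon
        push Not at hcon
        have := Finset.card_le_card (fun u _ => hcon u : (Finset.univ : Finset α) ⊆ {u, u'})
        rw [Finset.card_univ] at this
        have h3 := Finset.card_le_two (a := u) (b := u')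
        omega
      simp only [Finset.mem_insert, Finset.mem_singleton, not_or] at hw
      obtain ⟨g, hg⟩ := exists_cyc hA (x := u) (x' := w) (z := u') (Ne.symm hw.1) huu hw.2
      exact ⟨g, by rw [hsm, hg, cyc_x huu hw.2]⟩
  have h3 : (stabilizer G y).index = Nat.card α := index_stabilizer_of_transitive G y
  rw [← h1, ← hst, h3, Nat.card_eq_fintype_card]

end Cfsg.Agent.H555.AltTwo
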