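/- helper555: 2-transitive actions of groups between A_m and S_m: imprimitive stabilizers (HUB H1, P10) -/
import Cfsg.Agent.H555.AltTwo.Cases

set_option autoImplicit false

namespace Cfsg.Agent.H555.AltTwo

open MulAction Equiv Equiv.Perm

universe u v
variable {α : Type} [Fintype α] [DecidableEq α]
set_option linter.unusedSectionVars false
set_option linter.unusedTactic false

theorem cnt_swap_left {K : Finset α} {h : Perm α} (hh : ∀ u, u ∈ K ↔ h u ∉ K) (σ : Perm α) :
    cnt K (h * σ) = K.card - cnt K σ := by
  unfold cnt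
  have h1 := Finset.card_filter_add_card_filter_not (s := K) (fun u => σ u ∈ K)
  have h2 : K.filter (fun u => (h * σ) u ∈ K) = K.filter (fun u => ¬ σ u ∈ K) := by
    apply Finset.filter_congr
    intro u _
    rw [Perm.mul_apply, hh (σ u), not_not]
  rw [h2]; omega

theorem cnt_swap_right {K : Finset α} {h : Perm α} (hh : ∀ u, u ∈ K ↔ h u ∉ K) (σ : Perm α) :
    cnt K (σ * h) = K.card - cnt K σ := by
  have h1 : cnt K (σ * h) = ((Finset.univ.filter (fun v => σ v ∈ K)).filter (fun v => ¬ v ∈ K)).card := by
    unfold cnt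
    apply Finset.card_equiv h
    intro u
    rw [Finset.mem_filter, Finset.mem_filter, Finset.mem_filter, Perm.mul_apply, hh u]
    simp only [Finset.mem_univ, true_and]
    exact and_comm
  have h2 : cnt K σ = ((Finset.univ.filter (fun v => σ v ∈ K)).filter (fun v => v ∈ K)).card := by
    unfold cnt
    congr 1
    ext u
    simp only [Finset.mem_filter, Finset.mem_univ, true_and]
    exact and_comm
  have h3 : (Finset.univ.filter (fun v => σ v ∈ K)).card = K.card := by
    apply Finset.card_equiv σ
    intro u
    rw [Finset.mem_filter]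
    simp only [Finset.mem_univ, true_and]
  have h4 := Finset.card_filter_add_card_filter_not (s := Finset.univ.filter (fun v => σ v ∈ K))
    (fun v => v ∈ K)
  rw [h1, h2]; omega

open Classical in
/-- the points `u` whose `r`-class is mapped onto an `r`-class -/
noncomputable def J (r : Setoid α) (σ : Perm α) : Finset α :=
  Finset.univ.filter (fun u => ∀ v, r u v ↔ r (σ u) (σ v))

theorem mem_J {r : Setoid α} {σ : Perm α} {u : α} : u ∈ J r σ ↔ ∀ v, r u v ↔ r (σ u) (σ v) := by
  simp [J]

theorem J_left {r : Setoid α} {h : Perm α} (hh : ∀ u v, r u v ↔ r (h u) (h v)) (σ : Perm α) :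
    (J r (h * σ)).card = (J r σ).card := by
  congr 1
  ext u
  rw [mem_J, mem_J]
  simp only [Perm.mul_apply, ← hh]

theorem J_right {r : Setoid α} {h : Perm α} (hh : ∀ u v, r u v ↔ r (h u) (h v)) (σ : Perm α) :
    (J r (σ * h)).card = (J r σ).card := by
  apply Finset.card_equiv h
  intro u
  rw [mem_J, mem_J]
  constructor
  · intro h1 v
    have h2 := h1 (h.symm v)
    rw [Perm.mul_apply, Perm.mul_apply, Equiv.apply_symm_apply] at h2
    rw [← h2, hh u, Equiv.apply_symm_apply]
  · intro h1 v
    rw [Perm.mul_apply, Perm.mul_apply, ← h1, ← hh]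

variable {G : Type u} {Ω : Type v} [Group G] [MulAction G Ω]

/-- the stabilizer of an equivalence relation -/
def stabR (φ : G →* Perm α) (r : Setoid α) : Subgroup G where
  carrier := {g | ∀ u v, r u v ↔ r (φ g u) (φ g v)}
  one_mem' := fun u v => by rw [map_one, Perm.one_apply, Perm.one_apply]
  mul_mem' := by
    intro g h hg hh u v
    rw [map_mul, Perm.mul_apply, Perm.mul_apply, ← hg, ← hh]
  inv_mem' := by
    intro g hg u v
    rw [hg (φ g⁻¹ u), ← Perm.mul_apply, ← Perm.mul_apply, ← map_mul, mul_inv_cancel, map_one,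
      Perm.one_apply, Perm.one_apply]

theorem imprimitive_case (h2 : IsMultiplyPretransitive G Ω 2) (a : Ω)
    (hco : IsCoatom (stabilizer G a)) {φ : G →* Perm α}
    (hA : alternatingGroup α ≤ φ.range) (hm : 7 ≤ Fintype.card α) (r : Setoid α)
    (hr : stabilizer G a ≤ stabR φ r) (htr : ∀ x y : α, ∃ h ∈ stabilizer G a, φ h x = y)
    (hr1 : ∀ x, ∃ x', x' ≠ x ∧ r x x') (hr2 : ∃ x z, ¬ r x z) : False := by
  classical
  obtain ⟨x, z, hxz⟩ := hr2
  obtain ⟨x', hxx', hrx⟩ := hr1 x
  have hne : x ≠ z := fun h => hxz (h ▸ r.refl x)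
  have hne' : x' ≠ z := fun h => hxz (h ▸ hrx)
  have hrx'z : ¬ r x' z := fun h => hxz (r.trans hrx h)
  obtain ⟨g, hg⟩ := exists_cyc hA (Ne.symm hxx') hne hne'
  have hgR : g ∉ stabR φ r := by
    intro h
    have := (h x x').mp hrx
    rw [hg, cyc_x hne hne', cyc_x' (Ne.symm hxx') hne'] at this
    exact hxz (r.symm this)
  have hReq : stabilizer G a = stabR φ r := by
    by_contra hcon
    have := hco.2 _ (lt_of_le_of_ne hr hcon)
    rw [this] at hgR
    exact hgR trivial
  by_cases hw : ∃ w, ¬ r x w ∧ ¬ r z w
  · obtain ⟨w, hxw, hzw⟩ := hw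
    have hw1 : x ≠ w := fun h => hxw (h ▸ r.refl x)
    have hw2 : w ≠ z := fun h => hzw (h ▸ r.refl z)
    obtain ⟨g', hg'⟩ := exists_cyc hA hw1 hne hw2
    -- points outside the classes of x and z are in J g
    have k1 : ∀ u, ¬ r x u → ¬ r z u → u ∈ J r (φ g) := by
      intro u h3 h4
      have hu1 : u ≠ x := fun h => h3 (h ▸ r.refl u)
      have hu2 : u ≠ z := fun h => h4 (h ▸ r.refl u)
      have hu3 : u ≠ x' := fun h => h3 (h ▸ hrx)
      have h5 : ¬ r x' u := fun h => h3 (r.trans hrx h)
      rw [mem_J, hg]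
      intro v
      rw [cyc_other hu1 hu3 hu2]
      by_cases hv1 : v = x
      · rw [hv1, cyc_x hne hne']
        exact ⟨fun h => absurd (r.symm h) h3, fun h => absurd (r.symm h) h4⟩
      by_cases hv2 : v = x'
      · rw [hv2, cyc_x' (Ne.symm hxx') hne']
        exact ⟨fun h => absurd (r.symm h) h5, fun h => absurd (r.symm h) h3⟩
      by_cases hv3 : v = z
      · rw [hv3, cyc_z]
        exact ⟨fun h => absurd (r.symm h) h4, fun h => absurd (r.symm h) h5⟩
      rw [cyc_other hv1 hv2 hv3]
    -- points in the classes of x, z, w are not in J g'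
    have k2 : ∀ (s t : α), (¬ r s t) → φ g' s = t → (∀ q, r s q → q ≠ s → φ g' q = q) →
        ∀ u, r s u → u ∉ J r (φ g') := by
      intro s t hst hs hq u hsu hu
      rw [mem_J] at hu
      by_cases hus : u = s
      · obtain ⟨q, hq1, hq2⟩ := hr1 s
        have h6 := (hu q).mp (by rw [hus]; exact hq2)
        rw [hus, hs, hq q hq2 hq1] at h6
        exact hst (r.trans hq2 (r.symm h6))
      · have h6 := (hu s).mp (r.symm hsu)
        rw [hs, hq u hsu hus] at h6
        exact hst (r.trans hsu h6)
    have hsub : J r (φ g') ⊆ J r (φ g) := by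
      intro u hu
      apply k1
      · intro hxu
        refine k2 x z hxz (by rw [hg', cyc_x hne hw2]) ?_ u hxu hu
        intro q hq1 hq2
        rw [hg', cyc_other hq2 (by rintro rfl; exact hxw hq1) (by rintro rfl; exact hxz hq1)]
      · intro hzu
        refine k2 z w hzw (by rw [hg', cyc_z]) ?_ u hzu hu
        intro q hq1 hq2
        rw [hg', cyc_other (by rintro rfl; exact hxz (r.symm hq1)) (by rintro rfl; exact hzw hq1) hq2]
    have hwJ : w ∈ J r (φ g) := k1 w hxw hzw
    have hwJ' : w ∉ J r (φ g') := by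
      refine k2 w x (fun h => hxw (r.symm h)) (by rw [hg', cyc_x' hw1 hw2]) ?_ w (r.refl w)
      intro q hq1 hq2
      rw [hg', cyc_other (by rintro rfl; exact hxw (r.symm hq1)) hq2
        (by rintro rfl; exact hzw (r.symm hq1))]
    have hlt : (J r (φ g')).card < (J r (φ g)).card :=
      Finset.card_lt_card ⟨hsub, fun h => hwJ' (h hwJ)⟩
    have key := inv_const h2 a (fun g => (J r (φ g)).card) (by
      intro s hs g s' hs'
      rw [hReq] at hs hs'
      change (J r (φ (s * g * s'))).card = (J r (φ g)).card
      rw [map_mul, map_mul, J_right hs', J_left hs]) (g := g) (g' := g') (by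
        rw [hReq]; exact hgR) (by
        rw [hReq]
        intro h
        have := (h x x').mp hrx
        have hx'w : x' ≠ w := fun h => hxw (h ▸ hrx)
        rw [hg', cyc_x hne hw2, cyc_other hxx' hx'w hne'] at this
        exact hrx'z (r.symm this))
    exact absurd key (ne_of_gt hlt)
  · -- two classes
    push Not at hw
    let K : Finset α := Finset.univ.filter (fun u => r x u)
    have hK : ∀ u, u ∈ K ↔ r x u := fun u => by simp [K]
    have hKz : ∀ u, u ∉ K ↔ r z u := by
      intro u
      rw [hK]
      refine ⟨hw u, fun h h' => hxz (r.trans h' (r.symm h))⟩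
    obtain ⟨z', hzz', hrz⟩ := hr1 z
    -- the size of K
    obtain ⟨k, hk1, hk2⟩ := htr x z
    have hkR := hr hk1
    have hcard : (Finset.univ.filter (fun u => u ∈ K)).card = (Finset.univ.filter (fun u => ¬ u ∈ K)).card := by
      apply Finset.card_equiv (φ k)
      intro u
      simp only [Finset.mem_filter, Finset.mem_univ, true_and]
      rw [hKz, hK, hkR x u, hk2]
    have hsum := Finset.card_filter_add_card_filter_not (s := (Finset.univ : Finset α)) (fun u => u ∈ K)
    have hKK : Finset.univ.filter (fun u => u ∈ K) = K := by ext u; simp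
    rw [hKK] at hcard hsum
    rw [Finset.card_univ] at hsum
    have hb : 4 ≤ K.card := by omega
    have hx : x ∈ K := (hK x).mpr (r.refl x)
    have hx' : x' ∈ K := (hK x').mpr hrx
    have hz : z ∉ K := (hKz z).mpr (r.refl z)
    have hz' : z' ∉ K := (hKz z').mpr hrz
    obtain ⟨g', hg'⟩ := exists_dbl hA (x' := x') (z' := z') hne (fun h => hz' (h ▸ hx'))
    have hstab : ∀ h ∈ stabR φ r, (∀ u, u ∈ K ↔ φ h u ∈ K) ∨ (∀ u, u ∈ K ↔ φ h u ∉ K) := by
      intro h hh
      by_cases hxh : r x (φ h x)
      · left
        intro u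
        rw [hK, hK, hh x u]
        exact ⟨fun h3 => r.trans hxh h3, fun h3 => r.trans (r.symm hxh) h3⟩
      · right
        have hzh : r z (φ h x) := hw _ hxh
        intro u
        rw [hK, hKz, hh x u]
        exact ⟨fun h3 => r.trans hzh h3, fun h3 => r.trans (r.symm hzh) h3⟩
    have hle : ∀ σ : Perm α, cnt K σ ≤ K.card := fun σ => Finset.card_filter_le _ _
    have key := inv_const h2 a (fun g => cnt K (φ g) * (K.card - cnt K (φ g))) (by
      intro s hs g s' hs'
      rw [hReq] at hs hs'
      change cnt K (φ (s * g * s')) * (K.card - cnt K (φ (s * g * s')))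
        = cnt K (φ g) * (K.card - cnt K (φ g))
      rw [map_mul, map_mul]
      have hleg := hle (φ g)
      have hlr : K.card - (K.card - cnt K (φ g)) = cnt K (φ g) := by omega
      rcases hstab s hs with h3 | h3 <;> rcases hstab s' hs' with h4 | h4
      · rw [cnt_right h4, cnt_left h3]
      · rw [cnt_swap_right h4, cnt_left h3, hlr, mul_comm]
      · rw [cnt_right h4, cnt_swap_left h3, hlr, mul_comm]
      · rw [cnt_swap_right h4, cnt_swap_left h3, hlr]) (g := g) (g' := g') (by
        rw [hReq]; exact hgR) (by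
        rw [hReq]
        intro h
        obtain ⟨q, hq1, hq2⟩ : ∃ q, q ∉ ({x, x'} : Finset α) ∧ q ∈ K := by
          by_contra hcon
          push Not at hcon
          have hsub : K ⊆ {x, x'} := by
            intro q hq
            by_contra hq1
            exact hcon q hq1 hq
          have := Finset.card_le_card hsub
          have h3 := Finset.card_le_two (a := x) (b := x')
          omega
        simp only [Finset.mem_insert, Finset.mem_singleton, not_or] at hq1
        have h5 := (h x q).mp ((hK q).mp hq2)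
        have hxz' : x ≠ z' := fun h => hz' (h ▸ hx)
        have e1 : φ g' x = z := by
          rw [hg', dbl, Perm.mul_apply, swap_apply_of_ne_of_ne (Ne.symm hxx') hxz', swap_apply_left]
        have e2 : φ g' q = q := by
          rw [hg', dbl, Perm.mul_apply, swap_apply_of_ne_of_ne hq1.2 (by rintro rfl; exact hz' hq2),
            swap_apply_of_ne_of_ne hq1.1 (by rintro rfl; exact hz hq2)]
        rw [e1, e2] at h5
        exact ((hKz q).mpr h5) hq2)
    simp only [hg, hg', cnt_cyc hx hx' hz (Ne.symm hxx'), cnt_dbl hx hx' hz hz' (Ne.symm hxx')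
      (Ne.symm hzz')] at key
    have e3 : K.card - (K.card - 1) = 1 := by omega
    have e4 : K.card - (K.card - 2) = 2 := by omega
    rw [e3, e4] at key
    omega

end Cfsg.Agent.H555.AltTwo
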